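import Mathlib

/-!
Groups with exactly `2p + 1` Sylow `p`-subgroups: reduction to a faithful action, in which the
Sylow subgroups have order `p` and are self-centralizing.
-/

set_option autoImplicit false

namespace CfsgLib.SylowNumbers

open Subgroup MulAction
open scoped Pointwise

universe u

/-- A minimal configuration with `2p+1` Sylow `p`-subgroups. -/
structure Minimal (p : ℕ) (G : Type u) [Group G] : Prop where
  count : Nat.card (Sylow p G) = 2 * p + 1
  faithful : FaithfulSMul G (Sylow p G)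
  top_of_index : ∀ N : Subgroup G, N.Normal → ¬ p ∣ N.index → N = ⊤

theorem sylow_le_of_normal {p : ℕ} [hp : Fact p.Prime] {G : Type u} [Group G] [Finite G] {N : Subgroup G}
    [N.Normal] (h : ¬ p ∣ N.index) (P : Sylow p G) : (P : Subgroup G) ≤ N := by
  intro x hx
  have h1 : ∃ k, orderOf (QuotientGroup.mk' N x) ∣ p ^ k := by
    obtain ⟨k, hk⟩ := IsPGroup.iff_orderOf.1 P.2 ⟨x, hx⟩
    rw [Subgroup.orderOf_mk] at hk
    exact ⟨k, hk ▸ orderOf_map_dvd _ _⟩
  obtain ⟨k, hk⟩ := h1
  have h2 : orderOf (QuotientGroup.mk' N x) ∣ N.index := orderOf_dvd_natCard _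
  have h3 : (p ^ k).Coprime N.index := Nat.Coprime.pow_left _ (hp.out.coprime_iff_not_dvd.2 h)
  have h4 := Nat.eq_one_of_dvd_coprimes h3 hk h2
  rw [orderOf_eq_one_iff] at h4
  exact (QuotientGroup.eq_one_iff x).1 h4

theorem card_sylow_of_normal {p : ℕ} [hp : Fact p.Prime] {G : Type u} [Group G] [Finite G] {N : Subgroup G}
    [N.Normal] (h : ¬ p ∣ N.index) : Nat.card (Sylow p N) = Nat.card (Sylow p G) := by
  refine (Nat.card_eq_of_bijective (fun P : Sylow p G => P.subtype (sylow_le_of_normal h P)) ⟨?_, ?_⟩).symm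
  · intro P Q hPQ
    have := congrArg (fun R : Sylow p N => (R : Subgroup N).map N.subtype) hPQ
    simp only [Sylow.coe_subtype, Subgroup.subgroupOf_map_subtype,
      inf_eq_left.2 (sylow_le_of_normal h P), inf_eq_left.2 (sylow_le_of_normal h Q)] at this
    exact Sylow.ext this
  · intro R
    obtain ⟨P, hP⟩ := (R.2.map N.subtype).exists_le_sylow
    refine ⟨P, Sylow.ext (R.3 (P.subtype (sylow_le_of_normal h P)).2 ?_)⟩
    intro x hx
    exact hP ⟨x, hx, rfl⟩

theorem reduce (p : ℕ) [hp : Fact p.Prime]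
    (H : ∀ (G : Type u) [Group G] [Finite G], Minimal p G → False) :
    ∀ (G : Type u) [Group G] [Finite G], Nat.card (Sylow p G) ≠ 2 * p + 1 := by
  suffices key : ∀ n, ∀ (G : Type u) [Group G] [Finite G], Nat.card G = n →
      Nat.card (Sylow p G) ≠ 2 * p + 1 from fun G _ _ => key _ G rfl
  intro n
  induction n using Nat.strong_induction_on with
  | _ n ih =>
    intro G _ _ hn hc
    by_cases hN : ∀ N : Subgroup G, N.Normal → ¬ p ∣ N.index → N = ⊤
    · by_cases hf : FaithfulSMul G (Sylow p G)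
      · exact H G ⟨hc, hf, hN⟩
      · let φ := MulAction.toPermHom G (Sylow p G)
        have hK : φ.ker ≠ ⊥ := fun h => hf ⟨fun {a b} hab => by
          have hinj := (MonoidHom.ker_eq_bot_iff φ).1 h
          exact hinj (Equiv.ext hab)⟩
        have hsurj : Function.Surjective (QuotientGroup.mk' φ.ker) := QuotientGroup.mk'_surjective _
        have hcard : Nat.card (G ⧸ φ.ker) < n := by
          rw [← hn, Subgroup.card_eq_card_quotient_mul_card_subgroup φ.ker]
          exact lt_mul_of_one_lt_right Nat.card_pos ((Subgroup.one_lt_card_iff_ne_bot _).2 hK)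
        refine ih _ hcard (G ⧸ φ.ker) rfl ((Nat.card_eq_of_bijective
          (fun P : Sylow p G => P.mapSurjective hsurj) ⟨?_, Sylow.mapSurjective_surjective hsurj p⟩).symm.trans hc)
        intro P Q hPQ
        have h1 := congrArg (fun R : Sylow p (G ⧸ φ.ker) => R.toSubgroup) hPQ
        simp only [Sylow.coe_mapSurjective] at h1
        have h2 : (Q : Subgroup G) ≤ Subgroup.normalizer ((P : Subgroup G) : Set G) := by
          intro x hx
          have hx' : QuotientGroup.mk' φ.ker x ∈ (P : Subgroup G).map (QuotientGroup.mk' φ.ker) := by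
            rw [h1]; exact ⟨x, hx, rfl⟩
          obtain ⟨y, hy, hxy⟩ := hx'
          have hk : y⁻¹ * x ∈ φ.ker := QuotientGroup.eq.1 hxy
          have hk' : (y⁻¹ * x) • P = P := Equiv.congr_fun (MonoidHom.mem_ker.1 hk) P
          have hy' : y • P = P := Sylow.smul_eq_iff_mem_normalizer.2 (Subgroup.le_normalizer hy)
          refine Sylow.smul_eq_iff_mem_normalizer.1 ?_
          rw [← mul_inv_cancel_left y x, mul_smul, hk', hy']
        have h3 := Q.2.inf_normalizer_sylow P
        exact Sylow.ext (Q.3 P.2 ((le_inf le_rfl h2).trans (h3.le.trans inf_le_right)))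
    · push Not at hN
      obtain ⟨N, hNn, hNi, hNt⟩ := hN
      have : N.Normal := hNn
      have hlt : Nat.card N < n := by
        rw [← hn]
        exact lt_of_le_of_ne (Nat.le_of_dvd Nat.card_pos N.card_subgroup_dvd_card)
          (fun he => hNt (Subgroup.card_eq_iff_eq_top N |>.1 he))
      exact ih _ hlt N rfl ((card_sylow_of_normal hNi).trans hc)

variable {p : ℕ} [hp : Fact p.Prime] {G : Type u} [Group G] [Finite G]

omit hp [Finite G] in
theorem self_notMem_orbit {P X : Sylow p G} (hX : X ≠ P) : P ∉ MulAction.orbit (P : Subgroup G) X := by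
  rintro ⟨x, hx⟩
  apply hX
  have h1 : (x : G) • X = P := hx
  have h2 : (x : G) • P = P :=
    Sylow.smul_eq_iff_mem_normalizer.2 (Subgroup.le_normalizer x.2)
  exact smul_left_cancel (x : G) (h1.trans h2.symm)

theorem relIndex_sylow_eq (hodd : p ≠ 2) (h : Minimal p G) {P Q : Sylow p G} (hne : Q ≠ P) :
    (Q : Subgroup G).relIndex P = p ∧ (MulAction.orbit (P : Subgroup G) Q).ncard = p := by
  have hst : MulAction.stabilizer (P : Subgroup G) Q = (Q : Subgroup G).subgroupOf P := by
    ext x
    rw [MulAction.mem_stabilizer_iff, Subgroup.mem_subgroupOf]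
    change (x : G) • Q = Q ↔ _
    rw [Sylow.smul_eq_iff_mem_normalizer]
    constructor
    · intro hx
      have := P.2.inf_normalizer_sylow Q
      have hh : (x : G) ∈ (P : Subgroup G) ⊓ Subgroup.normalizer ((Q : Subgroup G) : Set G) :=
        Subgroup.mem_inf.2 ⟨x.2, hx⟩
      exact (Subgroup.mem_inf.1 (this.le hh)).2
    · exact fun hx => Subgroup.le_normalizer hx
  have e : (Q : Subgroup G).relIndex P = (MulAction.orbit (P : Subgroup G) Q).ncard := by
    rw [Subgroup.relIndex, ← hst, MulAction.index_stabilizer]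
  obtain ⟨k, hk⟩ := P.2.index ((Q : Subgroup G).subgroupOf P)
  change (Q : Subgroup G).relIndex P = p ^ k at hk
  have hle : (MulAction.orbit (P : Subgroup G) Q).ncard ≤ 2 * p := by
    have hP := self_notMem_orbit hne
    have h1 : MulAction.orbit (P : Subgroup G) Q ⊆ ({P} : Set (Sylow p G))ᶜ := fun R hR hRP => hP (hRP ▸ hR)
    refine (Set.ncard_le_ncard h1).trans ?_
    rw [Set.ncard_compl, Set.ncard_singleton, h.count]
    omega
  have h2 := hp.out.two_le
  have hk1 : k = 1 := by
    rcases k with _ | _ | k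
    · exfalso
      apply hne
      rw [pow_zero, Subgroup.relIndex_eq_one] at hk
      exact Sylow.ext (P.3 Q.2 hk)
    · rfl
    · exfalso
      have h3 : p ^ 2 ≤ p ^ (k + 2) := Nat.pow_le_pow_right hp.out.pos (by omega)
      have h4 : 3 ≤ p := by omega
      have h5 : 3 * p ≤ p ^ 2 := by rw [pow_two]; exact Nat.mul_le_mul_right p h4
      rw [e, show k + 1 + 1 = k + 2 from rfl] at hk
      omega
  rw [hk1, pow_one] at hk
  exact ⟨hk, e ▸ hk⟩

theorem inf_eq_of_mem_orbit (hodd : p ≠ 2) (h : Minimal p G) {P Q R : Sylow p G} (hne : Q ≠ P)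
    (hR : R ∈ MulAction.orbit (P : Subgroup G) Q) : (P : Subgroup G) ⊓ R = (P : Subgroup G) ⊓ Q := by
  obtain ⟨u, rfl⟩ := hR
  have hn : ((Q : Subgroup G).subgroupOf P).Normal := by
    apply Subgroup.normal_of_index_eq_minFac_card
    change (Q : Subgroup G).relIndex P = _
    rw [(relIndex_sylow_eq hodd h hne).1]
    obtain ⟨k, hk⟩ := IsPGroup.iff_card.1 P.2
    rcases k with _ | k
    · have := (relIndex_sylow_eq hodd h hne).1 ▸ Subgroup.relIndex_dvd_card (Q : Subgroup G) (P : Subgroup G)
      rw [hk, pow_zero] at this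
      exact absurd this hp.out.not_dvd_one
    · rw [hk, hp.out.pow_minFac (Nat.succ_ne_zero k)]
  ext x
  simp only [Subgroup.mem_inf]
  refine and_congr_right fun hx => ?_
  change x ∈ (((u : G) • Q : Sylow p G) : Subgroup G) ↔ _
  rw [Sylow.coe_subgroup_smul, Subgroup.mem_pointwise_smul_iff_inv_smul_mem, MulAut.smul_def,
    MulAut.conj_inv_apply]
  constructor
  · intro hx'
    have := hn.conj_mem ⟨(u : G)⁻¹ * x * u, mul_mem (mul_mem (inv_mem u.2) hx) u.2⟩ hx' u
    simpa [Subgroup.mem_subgroupOf, mul_assoc] using this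
  · intro hx'
    have := hn.conj_mem ⟨x, hx⟩ hx' u⁻¹
    simpa [Subgroup.mem_subgroupOf, mul_assoc] using this

theorem exists_two_orbits (hodd : p ≠ 2) (h : Minimal p G) (P Q : Sylow p G) (hne : Q ≠ P) :
    ∃ Q2 : Sylow p G, Q2 ≠ P ∧ Q2 ∉ MulAction.orbit (P : Subgroup G) Q ∧
      ∀ R, R = P ∨ R ∈ MulAction.orbit (P : Subgroup G) Q ∨ R ∈ MulAction.orbit (P : Subgroup G) Q2 := by
  have hP : ∀ {X : Sylow p G}, X ≠ P → P ∉ MulAction.orbit (P : Subgroup G) X := self_notMem_orbit
  set O := MulAction.orbit (P : Subgroup G) Q with hO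
  obtain ⟨Q2, hQ2⟩ : ∃ Q2, Q2 ∉ insert P O := by
    by_contra hcon
    push Not at hcon
    have : insert P O = Set.univ := Set.eq_univ_of_forall hcon
    have h1 := Set.ncard_insert_le P O
    rw [this, Set.ncard_univ, h.count, (relIndex_sylow_eq hodd h hne).2] at h1
    have := hp.out.two_le
    omega
  rw [Set.mem_insert_iff, not_or] at hQ2
  refine ⟨Q2, hQ2.1, hQ2.2, fun R => ?_⟩
  set O2 := MulAction.orbit (P : Subgroup G) Q2 with hO2
  have hd : Disjoint O O2 := by
    rw [Set.disjoint_left]
    intro X hX hX2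
    apply hQ2.2
    rw [hO, ← MulAction.orbit_eq_iff.2 hX, MulAction.orbit_eq_iff.2 hX2]
    exact MulAction.mem_orbit_self _
  have hcard : (insert P (O ∪ O2)).ncard = Nat.card (Sylow p G) := by
    rw [Set.ncard_insert_of_notMem, Set.ncard_union_eq hd, (relIndex_sylow_eq hodd h hne).2,
      (relIndex_sylow_eq hodd h hQ2.1).2, h.count]
    · omega
    · rintro (hh | hh)
      · exact hP hne hh
      · exact hP hQ2.1 hh
  rw [← Set.ncard_univ] at hcard
  have huniv := Set.eq_of_subset_of_ncard_le (Set.subset_univ _) hcard.ge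
  have := huniv.ge (Set.mem_univ R)
  simpa [or_assoc] using this

theorem inf_orbits_eq_bot (hodd : p ≠ 2) (h : Minimal p G) {P Q Q2 : Sylow p G} (hne : Q ≠ P) (hne2 : Q2 ≠ P)
    (hall : ∀ R, R = P ∨ R ∈ MulAction.orbit (P : Subgroup G) Q ∨ R ∈ MulAction.orbit (P : Subgroup G) Q2) :
    ((P : Subgroup G) ⊓ Q) ⊓ ((P : Subgroup G) ⊓ Q2) = ⊥ := by
  rw [Subgroup.eq_bot_iff_forall]
  intro x hx
  have hfix : ∀ R : Sylow p G, x • R = (1 : G) • R := by
    intro R
    rw [one_smul, Sylow.smul_eq_iff_mem_normalizer]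
    apply Subgroup.le_normalizer
    rcases hall R with rfl | hR | hR
    · exact hx.1.1
    · exact ((SetLike.ext_iff.1 (inf_eq_of_mem_orbit hodd h hne hR) x).2 hx.1).2
    · exact ((SetLike.ext_iff.1 (inf_eq_of_mem_orbit hodd h hne2 hR) x).2 hx.2).2
  exact h.faithful.eq_of_smul_eq_smul hfix

theorem card_sylow_eq_prime (hodd : p ≠ 2) (h : Minimal p G) (P : Sylow p G) :
    Nat.card P = p := by
  classical
  have := Fintype.ofFinite (Sylow p G)
  have := Fintype.ofFinite (Subgroup G)
  by_contra hne'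
  have two : ∀ P : Sylow p G, ∃ K1 K2 : Subgroup G, K1 ≠ K2 ∧ ∀ K : Subgroup G,
      (K ≤ (P : Subgroup G) ∧ Nat.card K = p ∧ ∃ Q, Q ≠ P ∧ K ≤ (Q : Subgroup G)) ↔ (K = K1 ∨ K = K2) := by
    intro P
    obtain ⟨Q, hQ⟩ : ∃ Q, Q ≠ P := by
      by_contra hc
      push Not at hc
      have : Subsingleton (Sylow p G) := ⟨fun a b => (hc a).trans (hc b).symm⟩
      have h1 := h.count
      rw [Nat.card_of_subsingleton P] at h1
      have := hp.out.two_le
      omega
    obtain ⟨Q2, hQ2, -, hall⟩ := exists_two_orbits hodd h P Q hQ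
    have hbot := inf_orbits_eq_bot hodd h hQ hQ2 hall
    have hidx : ∀ R : Sylow p G, R ≠ P → ((P : Subgroup G) ⊓ R).relIndex P = p := fun R hR => by
      rw [inf_comm, Subgroup.inf_relIndex_right]; exact (relIndex_sylow_eq hodd h hR).1
    have hcardP : Nat.card P = p * p := by
      obtain ⟨k, hk⟩ := IsPGroup.iff_card.1 P.2
      have h3 := Subgroup.relIndex_inf_le (H := (P : Subgroup G) ⊓ Q) (K := (P : Subgroup G) ⊓ Q2)
        (L := (P : Subgroup G))
      rw [hbot, hidx Q hQ, hidx Q2 hQ2, Subgroup.relIndex_bot_left] at h3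
      rcases k with _ | _ | _ | k
      · have h4 := (hidx Q hQ) ▸ Subgroup.relIndex_dvd_card ((P : Subgroup G) ⊓ Q) (P : Subgroup G)
        rw [hk, pow_zero] at h4
        exact absurd h4 hp.out.not_dvd_one
      · exfalso
        apply hne'
        rw [pow_one] at hk
        exact (Nat.card_congr (Sylow.equiv _ P).toEquiv).trans hk
      · rw [hk, pow_two]
      · exfalso
        rw [hk, show k + 1 + 1 + 1 = k + 3 from rfl] at h3
        have h5 : p * p * p ≤ p ^ (k + 3) := by
          rw [show p * p * p = p ^ 3 by ring]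
          exact Nat.pow_le_pow_right hp.out.pos (by omega)
        have h6 : p * p < p * p * p := lt_mul_of_one_lt_right (Nat.mul_pos hp.out.pos hp.out.pos) hp.out.one_lt
        omega
    have hc : ∀ R : Sylow p G, R ≠ P → Nat.card ↥((P : Subgroup G) ⊓ R) = p := by
      intro R hR
      have h7 := Subgroup.relIndex_mul_relIndex ⊥ ((P : Subgroup G) ⊓ R) P bot_le inf_le_left
      rw [Subgroup.relIndex_bot_left, Subgroup.relIndex_bot_left, hidx R hR, hcardP] at h7
      exact Nat.eq_of_mul_eq_mul_right hp.out.pos h7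
    refine ⟨(P : Subgroup G) ⊓ Q, (P : Subgroup G) ⊓ Q2, ?_, fun K => ⟨?_, ?_⟩⟩
    · intro e
      rw [← e, inf_idem] at hbot
      have := hc Q hQ
      rw [hbot, Subgroup.card_bot] at this
      exact hp.out.one_lt.ne this
    · rintro ⟨hKP, hK, R, hR, hKR⟩
      have hKe : K = (P : Subgroup G) ⊓ R :=
        Subgroup.eq_of_le_of_card_ge (le_inf hKP hKR) (by rw [hc R hR, hK])
      rcases hall R with rfl | hR' | hR'
      · exact absurd rfl hR
      · exact Or.inl (hKe.trans (inf_eq_of_mem_orbit hodd h hQ hR'))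
      · exact Or.inr (hKe.trans (inf_eq_of_mem_orbit hodd h hQ2 hR'))
    · rintro (rfl | rfl)
      · exact ⟨inf_le_left, hc Q hQ, Q, hQ, inf_le_right⟩
      · exact ⟨inf_le_left, hc Q2 hQ2, Q2, hQ2, inf_le_right⟩
  let S : Finset (Subgroup G) := Finset.univ.filter fun K =>
    Nat.card K = p ∧ ∃ A B : Sylow p G, A ≠ B ∧ K ≤ (A : Subgroup G) ∧ K ≤ (B : Subgroup G)
  let r : Sylow p G → Subgroup G → Prop := fun A K => K ≤ (A : Subgroup G)
  have hA : ∀ A ∈ (Finset.univ : Finset (Sylow p G)), (S.bipartiteAbove r A).card = 2 := by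
    intro A _
    obtain ⟨K1, K2, h12, hK⟩ := two A
    rw [show S.bipartiteAbove r A = {K1, K2} from ?_]
    · exact Finset.card_pair h12
    ext K
    simp only [Finset.bipartiteAbove, S, r, Finset.mem_filter, Finset.mem_univ, true_and,
      Finset.mem_insert, Finset.mem_singleton, ← hK K]
    constructor
    · rintro ⟨⟨hc, X, Y, hXY, hX, hY⟩, hKA⟩
      refine ⟨hKA, hc, ?_⟩
      by_cases hXA : X = A
      · exact ⟨Y, fun e => hXY (hXA.trans e.symm), hY⟩
      · exact ⟨X, hXA, hX⟩
    · rintro ⟨hKA, hc, X, hX, hKX⟩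
      exact ⟨⟨hc, X, A, hX, hKX, hKA⟩, hKA⟩
  have hB : ∀ K ∈ S, ((Finset.univ : Finset (Sylow p G)).bipartiteBelow r K).card = p + 1 := by
    intro K hK
    simp only [S, Finset.mem_filter, Finset.mem_univ, true_and] at hK
    obtain ⟨hc, A, B, hAB, hKA, hKB⟩ := hK
    obtain ⟨Q2, hQ2, hQ2n, hall⟩ := exists_two_orbits hodd h A B hAB.symm
    have hset : ((Finset.univ : Finset (Sylow p G)).bipartiteBelow r K : Set (Sylow p G)) =
        insert A (MulAction.orbit (A : Subgroup G) B) := by
      ext R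
      simp only [Finset.bipartiteBelow, r, Finset.coe_filter, Finset.mem_univ, true_and,
        Set.mem_insert_iff]
      constructor
      · intro hKR
        rcases hall R with h' | h' | h'
        · exact Or.inl h'
        · exact Or.inr h'
        · exfalso
          have h8 : K ≤ ⊥ := (inf_orbits_eq_bot hodd h hAB.symm hQ2 hall).le.trans' (le_inf (le_inf hKA hKB)
            ((inf_eq_of_mem_orbit hodd h hQ2 h').le.trans' (le_inf hKA hKR)))
          rw [le_bot_iff] at h8
          rw [h8, Subgroup.card_bot] at hc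
          exact hp.out.one_lt.ne hc
      · rintro (rfl | h')
        · exact hKA
        · exact ((inf_eq_of_mem_orbit hodd h hAB.symm h').symm.le.trans' (le_inf hKA hKB)).trans inf_le_right
    rw [← Set.ncard_coe_finset, hset, Set.ncard_insert_of_notMem (self_notMem_orbit hAB.symm),
      (relIndex_sylow_eq hodd h hAB.symm).2]
  have hmul := Finset.card_mul_eq_card_mul r hA hB
  rw [Finset.card_univ, ← Nat.card_eq_fintype_card, h.count] at hmul
  have h2 : p + 1 ∣ (2 * p + 1) * 2 := ⟨S.card, by rw [hmul, mul_comm]⟩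
  have h3 : (p + 1).Coprime (2 * p + 1) := by
    have : 2 * p + 1 = p + (p + 1) := by ring
    rw [this, Nat.coprime_add_self_right, Nat.coprime_self_add_left]
    exact Nat.coprime_one_left p
  have h4 := Nat.le_of_dvd (by omega) (h3.dvd_of_dvd_mul_left h2)
  have := hp.out.two_le
  omega

theorem centralizer_sylow_eq (hodd : p ≠ 2) (h : Minimal p G) (P : Sylow p G) :
    Subgroup.centralizer ((P : Subgroup G) : Set G) = (P : Subgroup G) := by
  classical
  have hcard := card_sylow_eq_prime hodd h P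
  have hcomm : IsMulCommutative (P : Subgroup G) := (isCyclic_of_prime_card hcard).isMulCommutative
  have hPC : (P : Subgroup G) ≤ Subgroup.centralizer ((P : Subgroup G) : Set G) := @Subgroup.le_centralizer _ _ _ hcomm
  set C := Subgroup.centralizer ((P : Subgroup G) : Set G) with hC
  have hCN : C ≤ Subgroup.normalizer ((P : Subgroup G) : Set G) := Subgroup.centralizer_le_normalizer _
  have hfree : ∀ c ∈ C, ∀ Q : Sylow p G, Q ≠ P → c • Q = Q → c = 1 := by
    intro c hc Q hQ hcQ
    obtain ⟨Q2, hQ2, hQ2n, hall⟩ := exists_two_orbits hodd h P Q hQ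
    have hcomm' : ∀ u : (P : Subgroup G), c * (u : G) = u * c := fun u =>
      (Subgroup.mem_centralizer_iff.1 hc u u.2).symm
    have hcP : c • P = P := Sylow.smul_eq_iff_mem_normalizer.2 (hCN hc)
    have hO : ∀ R ∈ MulAction.orbit (P : Subgroup G) Q, c • R = R := by
      rintro R ⟨u, rfl⟩
      change c • ((u : G) • Q) = (u : G) • Q
      rw [← mul_smul, hcomm', mul_smul, hcQ]
    have hcQ2 : c • Q2 ∈ MulAction.orbit (P : Subgroup G) Q2 := by
      rcases hall (c • Q2) with e | e | e
      · exact absurd (smul_left_cancel c (e.trans hcP.symm)) hQ2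
      · exact absurd (smul_left_cancel c (hO _ e) ▸ e) hQ2n
      · exact e
    obtain ⟨u, hu⟩ := hcQ2
    change (u : G) • Q2 = c • Q2 at hu
    have hu' : ∀ n : ℕ, (c ^ n) • Q2 = ((u : G) ^ n) • Q2 := by
      intro n
      induction n with
      | zero => simp
      | succ n ih =>
        have hcn : Commute (u : G) (c ^ n) := (Commute.pow_right (hcomm' u).symm n)
        rw [pow_succ, mul_smul, ← hu, ← mul_smul, ← hcn.eq, mul_smul, ih, ← mul_smul, ← pow_succ']
    have hup : ((u : G)) ^ p = 1 := by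
      apply orderOf_dvd_iff_pow_eq_one.1
      rw [Subgroup.orderOf_coe]
      exact (orderOf_dvd_natCard u).trans (dvd_of_eq hcard)
    have hcp : c ^ p = 1 := by
      refine h.faithful.eq_of_smul_eq_smul fun R : Sylow p G => ?_
      rw [one_smul]
      rcases hall R with e | e | e
      · exact e.symm ▸ (MulAction.stabilizer G P).pow_mem hcP p
      · exact (MulAction.stabilizer G R).pow_mem (hO R e) p
      · obtain ⟨v, rfl⟩ := e
        change (c ^ p) • ((v : G) • Q2) = (v : G) • Q2
        rw [← mul_smul, (Commute.pow_left (hcomm' v) p).eq, mul_smul, hu' p, hup, one_smul]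
    have hcP' : c ∈ (P : Subgroup G) := by
      have hpg : IsPGroup p (Subgroup.zpowers c) := by
        rintro ⟨y, hy⟩
        obtain ⟨k, rfl⟩ := Subgroup.mem_zpowers_iff.1 hy
        refine ⟨1, Subtype.ext ?_⟩
        rw [Subgroup.coe_pow, pow_one, ← zpow_natCast, ← zpow_mul, mul_comm, zpow_mul, zpow_natCast, hcp,
          one_zpow, Subgroup.coe_one]
      have hh : c ∈ Subgroup.zpowers c ⊓ Subgroup.normalizer ((P : Subgroup G) : Set G) :=
        Subgroup.mem_inf.2 ⟨Subgroup.mem_zpowers c, hCN hc⟩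
      exact (Subgroup.mem_inf.1 ((hpg.inf_normalizer_sylow P).le hh)).2
    have hcQ' : c ∈ (P : Subgroup G) ⊓ (Q : Subgroup G) := by
      have hh : c ∈ (P : Subgroup G) ⊓ Subgroup.normalizer ((Q : Subgroup G) : Set G) :=
        Subgroup.mem_inf.2 ⟨hcP', Sylow.smul_eq_iff_mem_normalizer.1 hcQ⟩
      exact (P.2.inf_normalizer_sylow Q).le hh
    have hbot : (P : Subgroup G) ⊓ (Q : Subgroup G) = ⊥ := by
      have h7 := Subgroup.relIndex_mul_relIndex ⊥ ((P : Subgroup G) ⊓ Q) P bot_le inf_le_left
      rw [Subgroup.relIndex_bot_left, Subgroup.relIndex_bot_left, inf_comm (P : Subgroup G),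
        Subgroup.inf_relIndex_right, (relIndex_sylow_eq hodd h hQ).1, hcard] at h7
      rw [inf_comm]
      exact Subgroup.eq_bot_of_card_eq _ ((Nat.mul_eq_right hp.out.pos.ne').1 h7)
    rw [hbot, Subgroup.mem_bot] at hcQ'
    exact hcQ'
  obtain ⟨Q, hQ⟩ : ∃ Q, Q ≠ P := by
    by_contra hc
    push Not at hc
    have : Subsingleton (Sylow p G) := ⟨fun a b => (hc a).trans (hc b).symm⟩
    have h1 := h.count
    rw [Nat.card_of_subsingleton P] at h1
    have := hp.out.two_le
    omega
  have hsmall : Nat.card C ≤ 2 * p := by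
    have hst : MulAction.stabilizer C Q = ⊥ := by
      rw [Subgroup.eq_bot_iff_forall]
      intro c hc
      exact Subtype.ext (hfree c c.2 Q hQ hc)
    have h1 := MulAction.index_stabilizer C Q
    rw [hst, Subgroup.index_bot] at h1
    rw [h1]
    have hnot : MulAction.orbit C Q ⊆ ({P} : Set (Sylow p G))ᶜ := by
      rintro R ⟨c, rfl⟩ hR
      apply hQ
      have h1 : (c : G) • Q = P := hR
      exact smul_left_cancel (c : G) (h1.trans (Sylow.smul_eq_iff_mem_normalizer.2 (hCN c.2)).symm)
    refine (Set.ncard_le_ncard hnot).trans ?_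
    rw [Set.ncard_compl, Set.ncard_singleton, h.count]
    omega
  obtain ⟨d, hd⟩ : p ∣ Nat.card C := hcard ▸ Subgroup.card_dvd_of_le hPC
  have hd2 : d = 1 ∨ d = 2 := by
    have h0 : Nat.card C ≠ 0 := Nat.card_pos.ne'
    rw [hd] at hsmall h0
    have hdle : d ≤ 2 := Nat.le_of_mul_le_mul_left (by rw [mul_comm p 2]; exact hsmall) hp.out.pos
    have hd0 : d ≠ 0 := fun e => h0 (by rw [e, mul_zero])
    omega
  rcases hd2 with rfl | rfl
  · exact (Subgroup.eq_of_le_of_card_ge hPC (by rw [hd, mul_one, hcard])).symm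
  exfalso
  obtain ⟨t, ht⟩ := exists_prime_orderOf_dvd_card' 2 (G := C) ⟨p, by rw [hd, mul_comm]⟩
  have := Fintype.ofFinite (Sylow p G)
  let φ := MulAction.toPermHom G (Sylow p G)
  have htne : (t : G) ≠ 1 := by
    intro e
    rw [← Subgroup.orderOf_coe, e, orderOf_one] at ht
    exact absurd ht (by omega)
  have ht2 : (φ t) ^ 2 = 1 := by
    rw [← map_pow, ← ht, ← Subgroup.orderOf_coe, pow_orderOf_eq_one, map_one]
  have hfix : Fintype.card (Function.fixedPoints (φ t)) = 1 := by
    rw [Fintype.card_eq_one_iff]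
    refine ⟨⟨P, Sylow.smul_eq_iff_mem_normalizer.2 (hCN t.2)⟩, ?_⟩
    rintro ⟨R, hR⟩
    refine Subtype.ext ?_
    by_contra hne
    exact htne (hfree t t.2 R hne hR)
  have hsign : Equiv.Perm.sign (φ t) = -1 := by
    have := Equiv.Perm.sign_of_cycleType_eq_replicate (n := 2) (by norm_num)
      (Equiv.Perm.cycleType_of_pow_prime_eq_one ht2)
    rw [this, if_neg (by decide), hfix, ← Nat.card_eq_fintype_card, h.count]
    rw [Nat.add_sub_cancel, Nat.mul_div_cancel_left _ (by norm_num)]
    exact (hp.out.odd_of_ne_two hodd).neg_one_pow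
  let ψ : G →* ℤˣ := Equiv.Perm.sign.comp φ
  have htop : ψ.ker = ⊤ := by
    refine h.top_of_index _ inferInstance fun hdvd => ?_
    rw [Subgroup.index_ker] at hdvd
    have h2 : Nat.card ψ.range ≤ 2 := by
      refine (Subgroup.card_le_card_group ψ.range).trans ?_
      simp [Nat.card_eq_fintype_card]
    have := Nat.le_of_dvd Nat.card_pos hdvd
    have := hp.out.two_le
    omega
  have h1 : ψ t = 1 := by rw [← MonoidHom.mem_ker, htop]; trivial
  rw [show ψ t = Equiv.Perm.sign (φ t) from rfl, hsign] at h1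
  exact absurd h1 (by decide)

theorem exists_card_eq (hodd : p ≠ 2) (h : Minimal p G) (P : Sylow p G) :
    ∃ e, e ∣ p - 1 ∧ Nat.card G = (2 * p + 1) * p * e ∧
      Nat.card (Subgroup.normalizer ((P : Subgroup G) : Set G)) = p * e ∧
      ((Subgroup.centralizer ((P : Subgroup G) : Set G)).subgroupOf
        (Subgroup.normalizer ((P : Subgroup G) : Set G))).index = e := by
  set N := Subgroup.normalizer ((P : Subgroup G) : Set G)
  set D := (Subgroup.centralizer ((P : Subgroup G) : Set G)).subgroupOf N with hD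
  have hcyc : IsCyclic (P : Subgroup G) := isCyclic_of_prime_card (card_sylow_eq_prime hodd h P)
  refine ⟨D.index, ?_, ?_, ?_, rfl⟩
  · have h1 := Subgroup.card_dvd_of_injective _
      (QuotientGroup.kerLift_injective (P : Subgroup G).normalizerMonoidHom)
    rw [Subgroup.normalizerMonoidHom_ker, hcyc.card_mulAut, card_sylow_eq_prime hodd h P,
      Nat.totient_prime hp.out] at h1
    exact h1
  all_goals
    have hDc : Nat.card D = p := by
      rw [hD, Nat.card_congr (Subgroup.subgroupOfEquivOfLe (Subgroup.centralizer_le_normalizer _)).toEquiv,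
        centralizer_sylow_eq hodd h P, card_sylow_eq_prime hodd h P]
    have hN := D.card_mul_index
    rw [hDc] at hN
  · rw [← N.card_mul_index, ← hN]
    have : N.index = 2 * p + 1 := by rw [← h.count]; exact P.card_eq_index_normalizer.symm
    rw [this]; ring
  · exact hN.symm

theorem false_of_small_normal (hodd : p ≠ 2) (h : Minimal p G) (Q : Subgroup G) [Q.Normal] {q : ℕ}
    (hq : q.Prime) (hQ : Nat.card Q = q) (hqp : q < p) : False := by
  obtain ⟨P⟩ : Nonempty (Sylow p G) := inferInstance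
  have hcyc : IsCyclic Q := by
    have := Fact.mk hq
    exact isCyclic_of_prime_card hQ
  let f : (P : Subgroup G) →* MulAut Q := MulAut.conjNormal.comp (P : Subgroup G).subtype
  have h1 : Nat.card f.range = 1 := by
    refine Nat.eq_one_of_dvd_coprimes ?_ (Subgroup.card_range_dvd f) (Subgroup.card_subgroup_dvd_card _)
    rw [card_sylow_eq_prime hodd h P, hcyc.card_mulAut, hQ, Nat.totient_prime hq,
      hp.out.coprime_iff_not_dvd]
    intro hd
    have := hq.two_le
    have := Nat.le_of_dvd (by omega) hd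
    omega
  have hle : Q ≤ (P : Subgroup G) := by
    rw [← centralizer_sylow_eq hodd h P]
    intro y hy
    rw [Subgroup.mem_centralizer_iff]
    intro x hx
    have hfx : f ⟨x, hx⟩ ∈ f.range := ⟨_, rfl⟩
    rw [Subgroup.eq_bot_of_card_eq _ h1, Subgroup.mem_bot] at hfx
    have := congrArg Subtype.val (DFunLike.congr_fun hfx ⟨y, hy⟩)
    simp only [f, MonoidHom.comp_apply, Subgroup.coe_subtype, MulAut.conjNormal_apply, MulAut.one_apply] at this
    nth_rw 2 [← this]
    group
  have := Subgroup.card_dvd_of_le hle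
  rw [hQ, card_sylow_eq_prime hodd h P, Nat.prime_dvd_prime_iff_eq hq hp.out] at this
  omega

theorem false_of_burnside (h : Minimal p G) {q : ℕ} [hq : Fact q.Prime] (hqp : q ≠ p) (hdvd : q ∣ Nat.card G)
    (Q : Sylow q G)
    (hN : Subgroup.normalizer ((Q : Subgroup G) : Set G) ≤ Subgroup.centralizer ((Q : Subgroup G) : Set G)) :
    False := by
  have hc := MonoidHom.ker_transferSylow_isComplement' Q hN
  have hidx := hc.symm.index_eq_card
  have hne : Nat.card Q ≠ 1 := fun e =>
    Q.ne_bot_of_dvd_card hdvd (Subgroup.eq_bot_of_card_eq _ e)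
  obtain ⟨k, hk⟩ := IsPGroup.iff_card.1 Q.2
  have htop := h.top_of_index _ (MonoidHom.normal_ker _) (by
    rw [hidx, hk]
    exact fun hd => hqp ((Nat.prime_dvd_prime_iff_eq hp.out hq.out).1 (hp.out.dvd_of_dvd_pow hd)).symm)
  rw [htop, Subgroup.index_top] at hidx
  exact hne hidx.symm

theorem normalizer_le_centralizer_of_coprime {G : Type u} [Group G] [Finite G] (Q : Subgroup G) {q : ℕ}
    (hq : q.Prime) (hQ : Nat.card Q = q)
    (hco : (Nat.card (Subgroup.normalizer (Q : Set G))).Coprime (q - 1)) :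
    Subgroup.normalizer (Q : Set G) ≤ Subgroup.centralizer (Q : Set G) := by
  have := Fact.mk hq
  have hcyc : IsCyclic Q := isCyclic_of_prime_card hQ
  rw [← Subgroup.relIndex_eq_one]
  have key := Subgroup.card_dvd_of_injective _ (QuotientGroup.kerLift_injective Q.normalizerMonoidHom)
  rw [Subgroup.normalizerMonoidHom_ker, hcyc.card_mulAut, hQ, Nat.totient_prime hq] at key
  exact Nat.eq_one_of_dvd_coprimes hco (Subgroup.relIndex_dvd_card _ _) key

theorem odd_of_minimal (hodd : p ≠ 2) (h : Minimal p G) (P : Sylow p G) {e : ℕ}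
    (hG : Nat.card G = (2 * p + 1) * p * e) : Odd e := by
  by_contra he
  rw [Nat.not_odd_iff_even] at he
  have h2 : 2 ∣ Nat.card G := by rw [hG]; exact Dvd.dvd.mul_left he.two_dvd _
  set N := Subgroup.normalizer ((P : Subgroup G) : Set G) with hN
  obtain ⟨T⟩ : Nonempty (Sylow 2 N) := inferInstance
  have hidx : ¬ 2 ∣ ((T : Subgroup N).map N.subtype).index := by
    rw [Subgroup.index_map_subtype]
    refine Nat.prime_two.not_dvd_mul T.not_dvd_index ?_
    rw [show N.index = 2 * p + 1 by rw [← h.count]; exact P.card_eq_index_normalizer.symm]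
    omega
  let S : Sylow 2 G := (T.2.map N.subtype).toSylow hidx
  have hS : IsCyclic (S : Subgroup G) := by
    have hcyc : IsCyclic (P : Subgroup G) := isCyclic_of_prime_card (card_sylow_eq_prime hodd h P)
    have : Fact (Nat.card (P : Subgroup G)).Prime := ⟨(card_sylow_eq_prime hodd h P).symm ▸ hp.out⟩
    have hA : IsCyclic (MulAut (P : Subgroup G)) :=
      isCyclic_of_injective (IsCyclic.mulAutMulEquiv (P : Subgroup G)).toMonoidHom (MulEquiv.injective _)
    let f : (T : Subgroup N) →* MulAut (P : Subgroup G) :=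
      (P : Subgroup G).normalizerMonoidHom.comp (T : Subgroup N).subtype
    have hf : Function.Injective f := by
      rw [← MonoidHom.ker_eq_bot_iff, Subgroup.eq_bot_iff_forall]
      intro x hx
      have hx' : (x : N) ∈ (P : Subgroup G).normalizerMonoidHom.ker := hx
      rw [Subgroup.normalizerMonoidHom_ker, Subgroup.mem_subgroupOf, centralizer_sylow_eq hodd h P] at hx'
      have h1 : orderOf x ∣ p := by
        rw [← Subgroup.orderOf_coe, ← Subgroup.orderOf_coe, ← card_sylow_eq_prime hodd h P,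
          ← Subgroup.orderOf_mk _ hx']
        exact orderOf_dvd_natCard _
      obtain ⟨k, hk⟩ := IsPGroup.iff_orderOf.1 T.2 x
      rw [← orderOf_eq_one_iff]
      refine Nat.eq_one_of_dvd_coprimes (Nat.Coprime.pow_left k ?_) hk.dvd h1
      exact (Nat.coprime_primes Nat.prime_two hp.out).2 (Ne.symm hodd)
    have hT : IsCyclic (T : Subgroup N) := isCyclic_of_injective f hf
    exact (MulEquiv.isCyclic ((T : Subgroup N).equivMapOfInjective N.subtype N.subtype_injective)).1 hT
  have hmin : (Nat.card G).minFac = 2 := (Nat.minFac_eq_two_iff _).2 h2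
  exact false_of_burnside h (Ne.symm hodd) h2 S (IsCyclic.normalizer_le_centralizer hmin hS)

end CfsgLib.SylowNumbers
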