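import Mathlib
import Cfsg.Agent.Lib.Transfer.Sections
import Cfsg.Agent.Lib.Solvable.CoprimeAction

/-!
P. Hall's factorisation of Sylow numbers along a normal subgroup.
-/

open scoped Pointwise

namespace CfsgLib.SylowNumbers

variable {G : Type*} [Group G] [Finite G]

omit [Finite G] in
/-- If `M = X * H` then the index of `H` in `M` is that of `H` in `X`. -/
theorem relIndex_eq_of_forall_mul {H X M : Subgroup G} (_hH : H ≤ M) (hX : X ≤ M)
    (h : ∀ m ∈ M, ∃ x ∈ X, ∃ y ∈ H, m = x * y) : H.relIndex M = H.relIndex X := by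
  refine (Nat.card_eq_of_bijective
    (Quotient.map' (fun x : X => (⟨x, hX x.2⟩ : M)) ?_) ⟨?_, ?_⟩).symm
  · intro a b hab
    rw [QuotientGroup.leftRel_apply] at hab ⊢
    exact hab
  · intro a b
    induction a using QuotientGroup.induction_on with | _ a => ?_
    induction b using QuotientGroup.induction_on with | _ b => ?_
    intro hab
    rw [QuotientGroup.eq]
    have h5 := QuotientGroup.eq.1 (show (QuotientGroup.mk (⟨a, hX a.2⟩ : M) : M ⧸ H.subgroupOf M) =
      QuotientGroup.mk ⟨b, hX b.2⟩ from hab)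
    exact h5
  · intro m
    induction m using QuotientGroup.induction_on with | _ m => ?_
    obtain ⟨x, hx, y, hy, e⟩ := h m m.2
    refine ⟨QuotientGroup.mk ⟨x, hx⟩, QuotientGroup.eq.2 ?_⟩
    show x⁻¹ * (m : G) ∈ H
    rw [e, inv_mul_cancel_left]
    exact hy

omit [Finite G] in
theorem card_eq_index {p : ℕ} [Fact p.Prime] [Finite (Sylow p G)] (P : Sylow p G) :
    Nat.card (Sylow p G) = (Subgroup.normalizer ((P : Subgroup G) : Set G)).index :=
  P.card_eq_index_normalizer

/-- The Sylow number of a quotient is the index of the normaliser of `P K`. -/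
theorem card_sylow_quotient {p : ℕ} [Fact p.Prime] (K : Subgroup G) [K.Normal] (P : Sylow p G) :
    Nat.card (Sylow p (G ⧸ K)) =
      (Subgroup.normalizer (((P : Subgroup G) ⊔ K : Subgroup G) : Set G)).index := by
  rw [card_eq_index (P.mapSurjective (QuotientGroup.mk'_surjective K)),
    Sylow.coe_mapSurjective, ← Subgroup.index_comap_of_surjective _ (QuotientGroup.mk'_surjective K),
    Subgroup.comap_normalizer_eq_of_surjective _ (QuotientGroup.mk'_surjective K),
    Subgroup.comap_map_eq, QuotientGroup.ker_mk']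

/-- Dividing out a normal `p`-subgroup does not change the Sylow number. -/
theorem card_sylow_quotient_eq {p : ℕ} [Fact p.Prime] (K : Subgroup G) [K.Normal] (P : Sylow p G)
    (hK : K ≤ P) : Nat.card (Sylow p (G ⧸ K)) = Nat.card (Sylow p G) := by
  rw [card_sylow_quotient K P, sup_eq_left.2 hK, card_eq_index P]

/-- P. Hall's product formula. -/
theorem card_sylow_product {p : ℕ} [Fact p.Prime] (K : Subgroup G) [K.Normal] (P : Sylow p G)
    (N : Subgroup G)
    (hN : N = ((P : Subgroup G) ⊔ K) ⊓ Subgroup.normalizer (((P : Subgroup G) ⊓ K : Subgroup G) : Set G))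
    [(((P : Subgroup G) ⊓ K).subgroupOf N).Normal] :
    Nat.card (Sylow p G) = Nat.card (Sylow p (G ⧸ K)) * Nat.card (Sylow p K) *
      Nat.card (Sylow p (N ⧸ ((P : Subgroup G) ⊓ K).subgroupOf N)) := by
  set X := (P : Subgroup G) ⊔ K with hX
  set S := (P : Subgroup G) ⊓ K with hS
  set NP := Subgroup.normalizer ((P : Subgroup G) : Set G) with hNP
  set M := Subgroup.normalizer (X : Set G) with hM
  have hKn : ∀ g : G, g ∈ Subgroup.normalizer (K : Set G) := fun g => by
    rw [Subgroup.normalizer_eq_top_iff.2 (inferInstance : K.Normal)]; trivial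
  have hNPM : NP ≤ M := by
    intro g hg
    have hg' : g ∈ Subgroup.normalizer (K : Set G) := hKn g
    rw [hM, Subgroup.mem_normalizer_iff]
    intro v
    have e1 : ∀ g : G, g ∈ NP → ∀ v ∈ X, g * v * g⁻¹ ∈ X := fun g hg v hv => by
      obtain ⟨a, ha, b, hb, rfl⟩ := Subgroup.mem_sup_of_normal_right.1 hv
      refine Subgroup.mem_sup_of_normal_right.2 ⟨g * a * g⁻¹, (Subgroup.mem_normalizer_iff.1 hg a).1 ha,
        g * b * g⁻¹, Subgroup.Normal.conj_mem inferInstance b hb g, by group⟩
    exact ⟨e1 g hg v, fun hv => by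
      have := e1 g⁻¹ (inv_mem hg) _ hv
      simpa [mul_assoc] using this⟩
  have hXM : X ≤ M := Subgroup.le_normalizer
  have hPX : (P : Subgroup G) ≤ X := le_sup_left
  -- Frattini argument in `M`
  have hfr : ∀ m ∈ M, ∃ x ∈ X, ∃ y ∈ NP, m = x * y := by
    intro m hm
    have h1 : ((m • P : Sylow p G) : Subgroup G) ≤ X := by
      rintro _ ⟨u, hu, rfl⟩
      exact (Subgroup.mem_normalizer_iff.1 hm u).1 (hPX hu)
    obtain ⟨⟨x, hxX⟩, hx⟩ := MulAction.exists_smul_eq X (P.subtype hPX) ((m • P).subtype h1)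
    have h2 : x • P = m • P := Sylow.subtype_injective (hP := (show ((x • P : Sylow p G) : Subgroup G) ≤ X by
        rintro _ ⟨u, hu, rfl⟩
        exact X.mul_mem (X.mul_mem hxX (hPX hu)) (X.inv_mem hxX))) (by rw [Sylow.smul_subtype] at hx; exact hx)
    refine ⟨x, hxX, x⁻¹ * m, ?_, by group⟩
    show x⁻¹ * m ∈ Subgroup.normalizer (P : Set G)
    rw [← Sylow.smul_eq_iff_mem_normalizer, mul_smul, ← h2, inv_smul_smul]
  have hSX : ∀ g ∈ NP, g ∈ Subgroup.normalizer (S : Set G) := by
    intro g hg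
    rw [Subgroup.mem_normalizer_iff]
    exact fun v => ⟨fun h => ⟨(Subgroup.mem_normalizer_iff.1 hg v).1 h.1, (Subgroup.mem_normalizer_iff.1 (hKn g) v).1 h.2⟩,
      fun h => ⟨(Subgroup.mem_normalizer_iff.1 hg v).2 h.1, (Subgroup.mem_normalizer_iff.1 (hKn g) v).2 h.2⟩⟩
  have hPN : (P : Subgroup G) ≤ N := hN ▸ le_inf hPX fun g hg => hSX g (Subgroup.le_normalizer hg)
  have hNX : N ≤ X := hN ▸ inf_le_left
  obtain ⟨T, hT⟩ := CfsgLib.Transfer.exists_sylow_map_eq_inf K P
  have hcK : Nat.card (Sylow p K) = (Subgroup.normalizer (S : Set G)).relIndex K := by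
    rw [card_eq_index T, Subgroup.relIndex]
    congr 1
    rw [hS, ← hT, Subgroup.subgroupOf_normalizer_eq (Subgroup.map_subtype_le _)]
    rw [Subgroup.subgroupOf, Subgroup.comap_map_eq_self_of_injective K.subtype_injective]
  have hXN : N.relIndex X = (Subgroup.normalizer (S : Set G)).relIndex K := by
    rw [relIndex_eq_of_forall_mul hNX (le_sup_right : K ≤ X) fun m hm => ?_]
    · rw [hN, Subgroup.relIndex, Subgroup.relIndex]
      congr 1
      ext u
      simp only [Subgroup.mem_subgroupOf, Subgroup.mem_inf]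
      exact ⟨fun h => h.2, fun h => ⟨le_sup_right (a := (P : Subgroup G)) u.2, h⟩⟩
    · obtain ⟨a, ha, b, hb, e⟩ := Subgroup.mem_sup_of_normal_right.1 hm
      exact ⟨a * b * a⁻¹, Subgroup.Normal.conj_mem inferInstance b hb a, a, hPN ha, by rw [← e]; group⟩
  have hcN : Nat.card (Sylow p (N ⧸ S.subgroupOf N)) = NP.relIndex N := by
    rw [card_sylow_quotient_eq _ (P.subtype hPN) (fun u (hu : u ∈ S.subgroupOf N) => (Subgroup.mem_subgroupOf.1 hu).1),
      card_eq_index (P.subtype hPN), Sylow.coe_subtype, Subgroup.relIndex,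
      Subgroup.subgroupOf_normalizer_eq hPN]
  have e1 : NP.relIndex N * N.relIndex X = NP.relIndex X := by
    have h3 : NP ⊓ X ≤ N := by
      rw [hN]
      exact le_inf inf_le_right fun g hg => hSX g hg.1
    have h4 : NP.relIndex N = (NP ⊓ X).relIndex N := by
      rw [← Subgroup.inf_relIndex_right NP N, ← Subgroup.inf_relIndex_right (NP ⊓ X) N, inf_assoc,
        inf_eq_right.2 hNX]
    rw [h4, Subgroup.relIndex_mul_relIndex _ _ _ h3 hNX, Subgroup.inf_relIndex_right]
  rw [card_eq_index P, ← Subgroup.relIndex_mul_index hNPM,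
    relIndex_eq_of_forall_mul hNPM hXM hfr, card_sylow_quotient K P, hcK, ← hXN, hcN, ← e1]
  ring

end CfsgLib.SylowNumbers

namespace CfsgLib.SylowNumbers

universe u

/-- The `ℓ`-part of a natural number is `1` modulo `p` for every prime `ℓ`. -/
def PartsModOne (p n : ℕ) : Prop :=
  n ≠ 0 ∧ ∀ ℓ : ℕ, ℓ.Prime → ℓ ^ n.factorization ℓ ≡ 1 [MOD p]

theorem PartsModOne.one (p : ℕ) : PartsModOne p 1 :=
  ⟨one_ne_zero, fun ℓ _ => by simp [Nat.ModEq]⟩

theorem PartsModOne.mul {p a b : ℕ} (ha : PartsModOne p a) (hb : PartsModOne p b) :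
    PartsModOne p (a * b) :=
  ⟨mul_ne_zero ha.1 hb.1, fun ℓ hℓ => by
    rw [Nat.factorization_mul ha.1 hb.1, Finsupp.add_apply, pow_add]
    exact (ha.2 ℓ hℓ).mul (hb.2 ℓ hℓ)⟩

/-- If a normal `p'`-subgroup together with a Sylow `p`-subgroup is the whole group, every prime
power part of the Sylow number is `1` modulo `p`. -/
theorem partsModOne_of_normal_complement {G : Type*} [Group G] [Finite G] {p : ℕ} [hp : Fact p.Prime]
    (L : Subgroup G) [L.Normal] (hL : ¬ p ∣ Nat.card L) (P : Sylow p G) (hsup : (P : Subgroup G) ⊔ L = ⊤) :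
    PartsModOne p (Nat.card (Sylow p G)) := by
  refine ⟨Nat.card_pos.ne', fun ℓ hℓ => ?_⟩
  set n := Nat.card (Sylow p G) with hn
  by_cases hℓn : ¬ ℓ ∣ n
  · rw [Nat.factorization_eq_zero_of_not_dvd hℓn, pow_zero]
  rw [not_not] at hℓn
  have := Fact.mk hℓ
  set C := L ⊓ Subgroup.centralizer ((P : Subgroup G) : Set G) with hC
  set NP := Subgroup.normalizer ((P : Subgroup G) : Set G) with hNP
  have hcop : (Nat.card (P : Subgroup G)).Coprime (Nat.card L) := by
    obtain ⟨i, hi⟩ := IsPGroup.iff_card.1 P.2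
    rw [hi]
    exact ((hp.out.coprime_iff_not_dvd).2 hL).pow_left i
  have hPL : (P : Subgroup G) ⊓ L = ⊥ := (Subgroup.disjoint_of_coprime_natCard hcop).eq_bot
  have hLN : NP ⊓ L = C := by
    refine le_antisymm (fun g hg => ⟨hg.2, Subgroup.mem_centralizer_iff.2 fun u hu => ?_⟩)
      (fun g hg => ⟨Subgroup.centralizer_le_normalizer _ hg.2, hg.1⟩)
    have h1 : g * u * g⁻¹ * u⁻¹ ∈ (P : Subgroup G) ⊓ L := by
      refine ⟨(P : Subgroup G).mul_mem ((Subgroup.mem_normalizer_iff.1 hg.1 u).1 hu) ((P : Subgroup G).inv_mem hu), ?_⟩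
      have h2 : u * g⁻¹ * u⁻¹ ∈ L := Subgroup.Normal.conj_mem inferInstance _ (L.inv_mem hg.2) u
      simpa [mul_assoc] using L.mul_mem hg.2 h2
    rw [hPL, Subgroup.mem_bot, mul_inv_eq_one, mul_inv_eq_iff_eq_mul] at h1
    exact h1.symm
  have hidx : n = C.relIndex L := by
    rw [hn, card_eq_index P, ← Subgroup.relIndex_top_right,
      relIndex_eq_of_forall_mul le_top (le_top : L ≤ ⊤) fun m _ => ?_, ← hLN, Subgroup.inf_relIndex_right]
    obtain ⟨a, ha, b, hb, e⟩ := Subgroup.mem_sup_of_normal_right.1 (hsup ▸ Subgroup.mem_top m)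
    exact ⟨a * b * a⁻¹, Subgroup.Normal.conj_mem inferInstance b hb a, a, Subgroup.le_normalizer ha,
      by rw [← e]; group⟩
  have hnL : n * Nat.card C = Nat.card L := by
    rw [hidx, ← Subgroup.card_mul_index (C.subgroupOf L), Subgroup.relIndex,
      Nat.card_congr (Subgroup.subgroupOfEquivOfLe (inf_le_left : C ≤ L)).toEquiv, mul_comm]
  obtain ⟨U⟩ : Nonempty (Sylow ℓ C) := inferInstance
  set U' := (U : Subgroup C).map C.subtype with hU'
  have hU'C : U' ≤ C := Subgroup.map_subtype_le _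
  have hUA : (P : Subgroup G) ≤ Subgroup.normalizer (U' : Set G) := by
    intro g hg
    have hfix : ∀ v ∈ U', g * v * g⁻¹ = v := fun v hv => by
      rw [Subgroup.mem_centralizer_iff.1 (hU'C hv).2 g hg, mul_inv_cancel_right]
    rw [Subgroup.mem_normalizer_iff]
    refine fun v => ⟨fun hv => (hfix v hv).symm ▸ hv, fun hv => ?_⟩
    have h2 := hfix _ hv
    rw [mul_left_inj, mul_right_inj] at h2
    rwa [h2] at hv
  have hs : Group.IsSolvable (P : Subgroup G) := by have := P.2.isNilpotent; infer_instance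
  obtain ⟨Q, hUQ, hPQ⟩ := CfsgLib.Solvable.exists_invariant_sylow_ge (A := (P : Subgroup G)) (K := L)
    (by rw [Subgroup.normalizer_eq_top_iff.2 (inferInstance : L.Normal)]; exact le_top) hcop (Or.inl hs) ℓ
    (hU'C.trans inf_le_left) (U.2.map _) hUA
  set Q' := (Q : Subgroup L).map L.subtype with hQ'
  have hQC : Q' ⊓ C = U' := by
    refine le_antisymm ?_ (le_inf hUQ hU'C)
    intro x hx
    have h2 : (Q'.subgroupOf C) = (U : Subgroup C) := U.is_maximal'
      ((Q.2.map L.subtype).comap_of_injective C.subtype C.subtype_injective)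
      (fun y hy => hUQ ⟨y, hy, rfl⟩)
    exact ⟨⟨x, hx.2⟩, h2 ▸ hx.1, rfl⟩
  have hcardQ : Nat.card Q' = ℓ ^ (Nat.card L).factorization ℓ := by
    rw [hQ', Subgroup.card_map_of_injective L.subtype_injective, Q.card_eq_multiplicity]
  have hcardU : Nat.card U' = ℓ ^ (Nat.card C).factorization ℓ := by
    rw [hU', Subgroup.card_map_of_injective C.subtype_injective, U.card_eq_multiplicity]
  have hfact : (Nat.card L).factorization ℓ = n.factorization ℓ + (Nat.card C).factorization ℓ := by
    rw [← hnL, Nat.factorization_mul Nat.card_pos.ne' Nat.card_pos.ne', Finsupp.add_apply]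
  -- `P` acts on `Q'` with fixed points `U'`
  letI : MulAction (P : Subgroup G) Q' :=
    { smul := fun g v => ⟨g * v * (g : G)⁻¹, (Subgroup.mem_normalizer_iff.1 (hPQ g.2) v).1 v.2⟩
      one_smul := fun v => Subtype.ext (show ((1 : (P : Subgroup G)) : G) * v * ((1 : (P : Subgroup G)) : G)⁻¹ = v by simp)
      mul_smul := fun g h v => Subtype.ext (show ((g * h : (P : Subgroup G)) : G) * v * ((g * h : (P : Subgroup G)) : G)⁻¹ =
        g * (h * v * (h : G)⁻¹) * (g : G)⁻¹ by simp [mul_assoc]) }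
  have hfixed : Nat.card (MulAction.fixedPoints (P : Subgroup G) Q') = Nat.card U' := by
    refine Nat.card_congr
      { toFun := fun v => ⟨v.1, hQC.le ⟨v.1.2, ⟨Subgroup.map_subtype_le _ v.1.2,
          Subgroup.mem_centralizer_iff.2 fun g hg => ?_⟩⟩⟩
        invFun := fun u => ⟨⟨u, hUQ u.2⟩, fun g => Subtype.ext ?_⟩
        left_inv := fun v => rfl
        right_inv := fun u => rfl }
    · have h2 : g * (v.1 : G) * g⁻¹ = v.1 := congrArg Subtype.val (v.2 ⟨g, hg⟩)
      rwa [mul_inv_eq_iff_eq_mul] at h2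
    · show (g : G) * u * (g : G)⁻¹ = u
      rw [Subgroup.mem_centralizer_iff.1 (hU'C u.2).2 g g.2, mul_inv_cancel_right]
  have hmod := P.2.card_modEq_card_fixedPoints Q'
  rw [hfixed, hcardQ, hcardU, hfact, pow_add] at hmod
  have hℓp : ℓ ≠ p := by
    rintro rfl
    exact hL (hℓn.trans (Dvd.intro _ hnL))
  have hgcd : Nat.gcd p (ℓ ^ (Nat.card C).factorization ℓ) = 1 :=
    ((Nat.coprime_primes hp.out hℓ).2 hℓp.symm).pow_right _
  refine Nat.ModEq.cancel_right_of_coprime hgcd ?_
  rwa [one_mul]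

/-- The Sylow number is a product of Sylow numbers of simple groups and of numbers all of whose
prime power parts are `1` modulo `p`. -/
theorem sylow_number_induction {p : ℕ} [hp : Fact p.Prime] (Good : ℕ → Prop) (hone : Good 1)
    (hmul : ∀ a b, Good a → Good b → Good (a * b)) (hparts : ∀ a, PartsModOne p a → Good a)
    (C : ∀ (G : Type u) [Group G], Prop)
    (hC : ∀ (G : Type u) [Group G] [Finite G] (K : Subgroup G) [K.Normal], C G → C K ∧ C (G ⧸ K))
    (hsimple : ∀ (S : Type u) [Group S] [Finite S], IsSimpleGroup S → C S → Good (Nat.card (Sylow p S))) :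
    ∀ (n : ℕ) (G : Type u) [Group G] [Finite G], Nat.card G = n → C G → Good (Nat.card (Sylow p G)) := by
  intro n
  induction n using Nat.strong_induction_on with
  | _ n IH =>
  intro G _ _ hn hCG
  rcases subsingleton_or_nontrivial G with hsub | hnt
  · rw [show Nat.card (Sylow p G) = 1 from by
      obtain ⟨P⟩ : Nonempty (Sylow p G) := inferInstance
      rw [card_eq_index P, Subgroup.index_eq_one]
      exact Subsingleton.elim _ _]
    exact hone
  by_cases hS : IsSimpleGroup G
  · exact hsimple G hS hCG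
  obtain ⟨K, hKn, hK1, hK2⟩ : ∃ K : Subgroup G, K.Normal ∧ K ≠ ⊥ ∧ K ≠ ⊤ := by
    by_contra hcon
    push Not at hcon
    exact hS ⟨fun H hH => (em (H = ⊥)).imp_right fun h => hcon H hH h⟩
  obtain ⟨P⟩ : Nonempty (Sylow p G) := inferInstance
  set S := (P : Subgroup G) ⊓ K with hSdef
  set N := ((P : Subgroup G) ⊔ K) ⊓ Subgroup.normalizer (S : Set G) with hN
  have hSN : S ≤ N := le_inf (inf_le_left.trans le_sup_left) Subgroup.le_normalizer
  have : (S.subgroupOf N).Normal := (Subgroup.normal_subgroupOf_iff_le_normalizer hSN).2 inf_le_right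
  rw [card_sylow_product K P N hN]
  have hPN : (P : Subgroup G) ≤ N := by
    refine le_inf le_sup_left fun g hg => ?_
    rw [Subgroup.mem_normalizer_iff]
    have hg' := Subgroup.mem_normalizer_iff.1 (Subgroup.le_normalizer hg : g ∈ Subgroup.normalizer ((P : Subgroup G) : Set G))
    have hgK : ∀ v, v ∈ K ↔ g * v * g⁻¹ ∈ K := fun v => ⟨fun h => Subgroup.Normal.conj_mem hKn v h g, fun h => by
      simpa [mul_assoc] using Subgroup.Normal.conj_mem hKn _ h g⁻¹⟩
    exact fun v => and_congr (hg' v) (hgK v)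
  refine hmul _ _ (hmul _ _ (IH _ ?_ _ rfl (hC G K hCG).2) (IH _ ?_ _ rfl (hC G K hCG).1)) (hparts _ ?_)
  · rw [← hn, Subgroup.card_eq_card_quotient_mul_card_subgroup K]
    exact lt_mul_of_one_lt_right Nat.card_pos ((Subgroup.one_lt_card_iff_ne_bot K).2 hK1)
  · rw [← hn]
    exact lt_of_le_of_ne (Subgroup.card_le_card_group K) fun e => hK2 (Subgroup.eq_top_of_card_eq K e)
  -- the last factor
  let π := QuotientGroup.mk' (S.subgroupOf N)
  let L : Subgroup (N ⧸ S.subgroupOf N) := (K.subgroupOf N).map π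
  have : L.Normal := (Subgroup.Normal.subgroupOf hKn N).map π (QuotientGroup.mk'_surjective _)
  refine partsModOne_of_normal_complement L ?_ ((P.subtype hPN).mapSurjective (QuotientGroup.mk'_surjective _)) ?_
  · obtain ⟨T, hT⟩ := CfsgLib.Transfer.exists_sylow_map_eq_inf K P
    intro hd
    apply T.not_dvd_index
    refine hd.trans ?_
    have h1 : Nat.card L = ((S.subgroupOf N).subgroupOf (K.subgroupOf N)).index := by
      rw [← Subgroup.relIndex, ← Subgroup.relIndex_bot_left, ← Subgroup.relIndex_comap,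
        MonoidHom.comap_bot, QuotientGroup.ker_mk']
    have h2 : (T : Subgroup K) = S.subgroupOf K := by
      rw [hSdef, ← hT, Subgroup.subgroupOf, Subgroup.comap_map_eq_self_of_injective K.subtype_injective]
    rw [h1, h2]
    have h3 : (S.subgroupOf N).relIndex (K.subgroupOf N) = S.relIndex (N ⊓ K) := by
      rw [Subgroup.subgroupOf, Subgroup.relIndex_comap, Subgroup.subgroupOf, Subgroup.map_comap_eq, Subgroup.range_subtype]
    change (S.subgroupOf N).relIndex (K.subgroupOf N) ∣ S.relIndex K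
    rw [h3]
    exact Dvd.intro _ (Subgroup.relIndex_mul_relIndex S (N ⊓ K) K (le_inf hSN inf_le_right) inf_le_right)
  · rw [Sylow.coe_mapSurjective, ← Subgroup.map_sup, Sylow.coe_subtype, eq_top_iff]
    intro x _
    obtain ⟨⟨x, hxN⟩, rfl⟩ := QuotientGroup.mk'_surjective _ x
    obtain ⟨a, ha, b, hb, e⟩ := Subgroup.mem_sup_of_normal_right.1 hxN.1
    have hbN : b ∈ N := by
      rw [← e] at hxN
      exact (Subgroup.mul_mem_cancel_left N (hPN ha)).1 hxN
    exact ⟨⟨x, hxN⟩, by
      rw [show (⟨x, hxN⟩ : N) = ⟨a, hPN ha⟩ * ⟨b, hbN⟩ from Subtype.ext e.symm]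
      exact Subgroup.mul_mem_sup ha hb, rfl⟩

end CfsgLib.SylowNumbers
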